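import Groth.Agent.H16Derived.Dual.PseudoQCoh
import Groth.Agent.H16Derived.Dual.BiDual
import Groth.Agent.H16Derived.ProjFormula.PTri
import Groth.Agent.H16Derived.TorTest.PushTensorPC
import Groth.Agent.H16Derived.DQLim.Detect
import Groth.Agent.LeadBrown.BddCriterion

/-!
# Maps which are isomorphisms in low degrees, seen by maps out of bounded above objects
-/

set_option autoImplicit false
set_option linter.style.haveILetI false
set_option backward.isDefEq.respectTransparency false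

universe u

open CategoryTheory CategoryTheory.Limits AlgebraicGeometry Pretriangulated
open Groth.Agent.H16Derived.Dual
open Groth.Agent.H16Derived.KFlat Groth.Agent.H16Derived.KFlat.Stalk

attribute [local instance] HasDerivedCategory.standard

namespace Groth.Agent.H16Derived.RelDual

variable {X Y : Scheme.{u}}

open DerivedCategory.TStructure (t)

/-- Maps out of objects in degrees at most `c` do not see the difference of the ends of `φ`. -/
def BelowIso {A B : DCoh.D X} (φ : A ⟶ B) (c : ℤ) : Prop :=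
  ∀ W : DCoh.D X, W.IsLE c → Function.Bijective fun x : W ⟶ A => x ≫ φ

theorem BelowIso.mono {A B : DCoh.D X} {φ : A ⟶ B} {c c' : ℤ} (h : BelowIso φ c) (hc : c' ≤ c) :
    BelowIso φ c' := fun W hW => h W (t.isLE_of_le W c' c hc)

theorem belowIso_of_isIso {A B : DCoh.D X} (φ : A ⟶ B) [IsIso φ] (c : ℤ) : BelowIso φ c := fun W _ =>
  ⟨fun x y h => (cancel_mono φ).1 h, fun y => ⟨y ≫ inv φ, by simp⟩⟩

theorem BelowIso.comp {A B C : DCoh.D X} {φ : A ⟶ B} {ψ : B ⟶ C} {c : ℤ} (h : BelowIso φ c)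
    (h' : BelowIso ψ c) : BelowIso (φ ≫ ψ) c := fun W hW => by
  convert (h' W hW).comp (h W hW) using 1
  funext x
  simp

theorem BelowIso.of_comp_right {A B C : DCoh.D X} {φ : A ⟶ B} {ψ : B ⟶ C} {c : ℤ}
    (h : BelowIso (φ ≫ ψ) c) (h' : BelowIso ψ c) : BelowIso φ c := fun W hW => by
  refine ⟨fun x y hxy => (h W hW).1 ?_, fun z => ?_⟩
  · have e := congrArg (· ≫ ψ) hxy
    simpa using e
  · obtain ⟨x, hx⟩ := (h W hW).2 (z ≫ ψ)
    exact ⟨x, (h' W hW).1 (by simpa using hx)⟩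

/-- Invariance under isomorphisms of arrows. -/
theorem BelowIso.of_iso {A B A' B' : DCoh.D X} {φ : A ⟶ B} {φ' : A' ⟶ B'} {c : ℤ} (h : BelowIso φ c)
    (eA : A' ≅ A) (eB : B' ≅ B) (w : φ' ≫ eB.hom = eA.hom ≫ φ) : BelowIso φ' c :=
  BelowIso.of_comp_right (w.symm ▸ (belowIso_of_isIso eA.hom c).comp h) (belowIso_of_isIso eB.hom c)

/-- An isomorphism in all degrees. -/
theorem isIso_of_belowIso {A B : DCoh.D X} (φ : A ⟶ B) (h : ∀ c, BelowIso φ c) : IsIso φ := by
  obtain ⟨Z, g, δ, hT⟩ := distinguished_cocone_triangle φ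
  refine (Triangle.isZero₃_iff_isIso₁ _ hT).1 (MVPush.isZero_of_hd Z fun j => ?_)
  have h0 : (t.truncLEι j).app Z = 0 :=
    DQLim.eq_zero_cone hT _ (h (j + 1) _ (t.isLE_shift _ j (-1) (j + 1) (by omega))) (h j _ inferInstance).2 _
  haveI := LeadBrown.isIso_homologyMap_truncLEι Z j j le_rfl
  rw [IsZero.iff_id_eq_zero]
  refine (cancel_epi ((DerivedCategory.homologyFunctor X.Modules j).map ((t.truncLEι j).app Z))).1 ?_
  rw [h0, Functor.map_zero, zero_comp, zero_comp]

/-- Direct images keep the property. -/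
theorem BelowIso.rpush (f : X ⟶ Y) [DCoh.HasRpush f] {A B : DCoh.D X} {φ : A ⟶ B} {c : ℤ}
    (h : BelowIso φ c) : BelowIso ((DCoh.Rpush f).map φ) c := fun W hW => by
  haveI := hasLpull f
  haveI := hW
  haveI := isLE_lpull f W c
  let a := lpullRpushAdj f
  have he : (fun x : W ⟶ (DCoh.Rpush f).obj A => x ≫ (DCoh.Rpush f).map φ) =
      a.homEquiv _ _ ∘ (fun z : (DCoh.Lpull f).obj W ⟶ A => z ≫ φ) ∘ (a.homEquiv _ _).symm := funext fun x => by
    rw [Function.comp_apply, Function.comp_apply, a.homEquiv_naturality_right, Equiv.apply_symm_apply]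
  rw [he]
  exact (a.homEquiv _ _).bijective.comp ((h _ inferInstance).comp (a.homEquiv _ _).symm.bijective)

/-- **Restriction along a map with cone in low degrees is an isomorphism in low degrees.** -/
theorem belowIso_Rmap {k k' C : DCoh.D X} {φ : k ⟶ k'} {p : k' ⟶ C} {w : C ⟶ k⟦(1 : ℤ)⟧}
    (hT : Triangle.mk φ p w ∈ distTriang (DCoh.D X)) (δ : ℤ) [C.IsLE δ] (m : DCoh.D X) (g : ℤ) [m.IsGE g]
    (c : ℤ) (hc : c + δ + 1 < g) : BelowIso (Rmap φ m) c := fun W hW => by
  haveI := hW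
  obtain ⟨T', hT', e₁, e₂, e₃, h₁, -⟩ := ProjFormula.ptri_TObj W _ hT
  have h₁' : T'.mor₁ ≫ e₂.hom = e₁.hom ≫ ((T X).obj W).map φ := h₁
  haveI : (((T X).obj W).obj C).IsLE (δ + c) := TorTest.isLE_T W C c δ
  haveI : T'.obj₃.IsLE (δ + c) :=
    @Triangulated.TStructure.isLE_of_iso _ _ _ _ _ _ _ t _ _ e₃.symm (δ + c)
      (by assumption : (((T X).obj W).obj C).IsLE (δ + c))
  haveI : (T'.obj₃⟦(-1 : ℤ)⟧).IsLE (δ + c + 1) := t.isLE_shift T'.obj₃ (δ + c) (-1) (δ + c + 1)
  have hpre : Function.Bijective fun z : ((T X).obj W).obj k' ⟶ m => ((T X).obj W).map φ ≫ z := by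
    constructor
    · intro x y hxy
      obtain ⟨z, hz⟩ := Triangle.yoneda_exact₂ T' hT' (e₂.hom ≫ (x - y)) (by
        rw [← Category.assoc, h₁', Category.assoc, Preadditive.comp_sub, sub_eq_zero.2 hxy, comp_zero])
      have hz0 : z = 0 := t.zero_of_isLE_of_isGE z (δ + c) g (by omega) inferInstance inferInstance
      rw [hz0, comp_zero] at hz
      exact sub_eq_zero.1 ((cancel_epi e₂.hom).1 (by rw [hz, comp_zero]))
    · intro y
      obtain ⟨z, hz⟩ := Triangle.yoneda_exact₂ _ (inv_rot_of_distTriang _ hT') (e₁.hom ≫ y)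
        (t.zero_of_isLE_of_isGE _ (δ + c + 1) g (by omega)
          (by assumption : (T'.obj₃⟦(-1 : ℤ)⟧).IsLE (δ + c + 1)) inferInstance)
      change T'.obj₂ ⟶ m at z
      change e₁.hom ≫ y = T'.mor₁ ≫ z at hz
      refine ⟨e₂.inv ≫ z, (cancel_epi e₁.hom).1 ?_⟩
      show e₁.hom ≫ ((T X).obj W).map φ ≫ e₂.inv ≫ z = _
      rw [← reassoc_of% h₁', Iso.hom_inv_id_assoc, hz]
  have he : (fun x : W ⟶ (R k').obj m => x ≫ Rmap φ m) =
      (adjR k).homEquiv _ _ ∘ (fun z => ((T X).obj W).map φ ≫ z) ∘ ((adjR k').homEquiv _ _).symm := funext fun x => by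
    rw [Function.comp_apply, Function.comp_apply, ← comp_Rmap, Equiv.apply_symm_apply]
  rw [he]
  exact ((adjR k).homEquiv _ _).bijective.comp (hpre.comp ((adjR k').homEquiv _ _).symm.bijective)

/-- A bound from maps to modules in high degrees. -/
theorem isLE_of_tests {D : DCoh.D X} (N : ℤ) [D.IsLE N] (hq : DCoh.IsQCohD D) (b : ℤ)
    (h : ∀ (i : ℤ), b < i → ∀ (M : X.Modules), Coh.IsQCoh M →
      ∀ z : D ⟶ (DerivedCategory.singleFunctor X.Modules i).obj M, z = 0) : D.IsLE b := by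
  suffices ∀ n : ℕ, D.IsLE (b + n) → D.IsLE b by
    exact this (N - b).toNat (t.isLE_of_le D N _ (by omega))
  intro n
  induction n with
  | zero => intro hD; simpa using hD
  | succ n ih =>
    intro hD
    refine ih ((DerivedCategory.isLE_iff _ _).2 fun j hj => ?_)
    rcases lt_or_ge (b + (n + 1 : ℕ)) j with hj' | hj'
    · exact DerivedCategory.isZero_of_isLE D (b + (n + 1 : ℕ)) j hj'
    obtain rfl : j = b + (n + 1 : ℕ) := by omega
    let P := (t.truncGE (b + (n + 1 : ℕ))).obj D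
    haveI : P.IsGE (b + (n + 1 : ℕ)) := inferInstanceAs (t.IsGE _ _)
    haveI := hD
    haveI : P.IsLE (b + (n + 1 : ℕ)) := inferInstanceAs (t.IsLE ((t.truncGE _).obj D) _)
    obtain ⟨M, ⟨e⟩⟩ := DerivedCategory.exists_iso_singleFunctor_obj_of_isGE_of_isLE P (b + (n + 1 : ℕ))
    let H := DerivedCategory.homologyFunctor X.Modules (b + (n + 1 : ℕ))
    haveI : IsIso (H.map ((t.truncGEπ (b + (n + 1 : ℕ))).app D)) :=
      DTrunc.isIso_homology_truncGEπ D _ _ le_rfl
    let eM : H.obj D ≅ M := asIso (H.map ((t.truncGEπ (b + (n + 1 : ℕ))).app D)) ≪≫ H.mapIso e ≪≫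
      (DerivedCategory.singleFunctorCompHomologyFunctorIso X.Modules _).app M
    have hz := h (b + (n + 1 : ℕ)) (by omega) M (QCohD.isQCoh_iso eM (hq _))
      ((t.truncGEπ (b + (n + 1 : ℕ))).app D ≫ e.hom)
    have hπ : (t.truncGEπ (b + (n + 1 : ℕ))).app D = 0 := (cancel_mono e.hom).1 (hz.trans zero_comp.symm)
    rw [IsZero.iff_id_eq_zero]
    refine (cancel_mono (H.map ((t.truncGEπ (b + (n + 1 : ℕ))).app D))).1 ?_
    rw [hπ, Functor.map_zero, comp_zero, comp_zero]

end Groth.Agent.H16Derived.RelDual
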