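import Groth.Agent.H16Derived.Thomason.HocolimHD

/-!
# Homotopy colimits of eventually constant sequences
-/

set_option autoImplicit false
set_option linter.style.haveILetI false
set_option backward.isDefEq.respectTransparency false

universe u

open CategoryTheory CategoryTheory.Limits AlgebraicGeometry Pretriangulated
open Groth.Agent.H16Derived.KFlat Groth.Agent.H16Derived.KFlat.Stalk

attribute [local instance] HasDerivedCategory.standard

namespace Groth.Agent.H16Derived.RelDual

variable {X : Scheme.{u}} {E : ℕ → DCoh.D X}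

/-- Cones in degrees at most `e - 1` from isomorphisms in degrees at least `e`. -/
theorem isLE_cone {A B C : DCoh.D X} {φ : A ⟶ B} {p : B ⟶ C} {w : C ⟶ A⟦(1 : ℤ)⟧}
    (hT : Triangle.mk φ p w ∈ distTriang (DCoh.D X)) (e : ℤ)
    (h : ∀ j, e ≤ j → IsIso ((DerivedCategory.homologyFunctor X.Modules j).map φ)) : C.IsLE (e - 1) :=
  (approx_iff hT e).1 ⟨fun j hj => h j (by omega),
    show Epi ((DerivedCategory.homologyFunctor X.Modules e).map φ) from
      haveI := h e le_rfl; inferInstance⟩

/-- Isomorphisms in high degrees from cones in low degrees. -/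
theorem isIso_hd_of_cone {A B C : DCoh.D X} {φ : A ⟶ B} {p : B ⟶ C} {w : C ⟶ A⟦(1 : ℤ)⟧}
    (hT : Triangle.mk φ p w ∈ distTriang (DCoh.D X)) (b : ℤ) [hC : C.IsLE b] (j : ℤ) (hj : b + 1 < j) :
    IsIso ((DerivedCategory.homologyFunctor X.Modules j).map φ) := by
  have h : C.IsLE ((b + 1) - 1) := by rwa [add_sub_cancel_right]
  exact ((approx_iff hT (b + 1)).2 h).1 j hj

/-- The insertion in the homotopy colimit of an eventually constant sequence. -/
theorem isIso_hd_l [HasColimitsOfShape (Discrete ℕ) (DCoh.D X)] {f : ∀ n, E n ⟶ E (n + 1)} {L : DCoh.D X}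
    {l : ∀ n, E n ⟶ L} (hL : DerLim.IsHocolim E f L l) (N : ℕ) (j : ℤ)
    (hf : ∀ n, N ≤ n → IsIso ((DerivedCategory.homologyFunctor X.Modules j).map (f n))) :
    IsIso ((DerivedCategory.homologyFunctor X.Modules j).map (l N)) := by
  let H := DerivedCategory.homologyFunctor X.Modules j
  haveI := Thomason.preservesColimitsOfShape_hd_nat (X := X) j
  haveI : AB5OfSize.{0, 0} X.Modules := AB5OfSize_shrink.{0, 0, u, u} _
  haveI : HasExactColimitsOfShape ℕ X.Modules := AB5OfSize.ofShape ℕ
  obtain ⟨e, he⟩ := S1034.result H E f L l hL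
  let F := Functor.ofSequence (fun n => H.map (f n))
  have hconst : F.IsEventuallyConstantFrom N := by
    intro k g
    obtain ⟨hNk⟩ : Nonempty (PLift (N ≤ k)) := ⟨⟨g.le⟩⟩
    rw [Subsingleton.elim g (homOfLE hNk.down)]
    obtain ⟨s, rfl⟩ := Nat.exists_eq_add_of_le hNk.down
    induction s with
    | zero => exact (Subsingleton.elim (𝟙 N) (homOfLE hNk.down)) ▸ inferInstanceAs (IsIso (F.map (𝟙 N)))
    | succ s ih =>
      rw [show homOfLE hNk.down = homOfLE (Nat.le_add_right N s) ≫ homOfLE (Nat.le_succ (N + s)) from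
        Subsingleton.elim _ _, F.map_comp]
      haveI := ih (homOfLE (Nat.le_add_right N s)) ⟨Nat.le_add_right N s⟩
      haveI : IsIso (F.map (homOfLE (Nat.le_succ (N + s)))) := by
        rw [show F.map (homOfLE (Nat.le_succ (N + s))) = H.map (f (N + s)) from Functor.ofSequence_map_homOfLE_succ _ _]
        exact hf _ (Nat.le_add_right N s)
      exact IsIso.comp_isIso
  haveI : IsIso (colimit.ι (Functor.ofSequence fun n => H.map (f n)) N) :=
    hconst.isIso_ι_of_isColimit (colimit.isColimit F)
  rw [← he N]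
  exact @IsIso.comp_isIso _ _ _ _ _ _ _ (by assumption) inferInstance

end Groth.Agent.H16Derived.RelDual
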