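import Groth.Agent.H16Derived.RelDual.Push
import Groth.Agent.H16Derived.RelDual.Hocolim
import Groth.Agent.H16Derived.BaseChange.FinitePC
import Groth.Agent.H16Derived.TorTest.RelPerfTensor
import Groth.Agent.H16Derived.PushTensorPC.Main

/-!
# `Rf_* RHom(K, E)` is a dual
-/

set_option autoImplicit false
set_option linter.style.haveILetI false
set_option backward.isDefEq.respectTransparency false

universe u

open CategoryTheory CategoryTheory.Limits AlgebraicGeometry Pretriangulated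
open Groth.Agent.H16Derived.Dual
open Groth.Agent.H16Derived.KFlat Groth.Agent.H16Derived.KFlat.Stalk
open DerivedCategory.TStructure (t)

attribute [local instance] HasDerivedCategory.standard

namespace Groth.Agent.H16Derived.RelDual

variable {X S : Scheme.{u}} (f : X ⟶ S)

/-- Bounds below from the relative tor dimension. -/
theorem exists_bound [CompactSpace X] [DCoh.HasLpull f] {E : DCoh.D X}
    (htor : DCoh.LocHasFiniteRelTorDim f E) :
    ∃ a : ℤ, E.IsGE a ∧ ∀ (M : S.Modules) (i : ℤ),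
      (((T X).obj ((DCoh.Lpull f).obj ((DerivedCategory.singleFunctor S.Modules i).obj M))).obj E).IsGE (a + i) := by
  let F := DerivedCategory.Q.objPreimage E
  let eF : DCoh.toD X F ≅ E := DerivedCategory.Q.objObjPreimageIso E
  obtain ⟨a, b, hab⟩ := TorTest.exists_interval f F isCompact_univ
    (BaseChange.locFiniteTorAmplitude_of_relTorDim htor F ⟨eF⟩)
  have hF : DerSch.HasTorAmplitude f a b F := fun x => hab x trivial
  haveI := (TorTest.bounds_of_ta f hF).1
  haveI := hasLTensorCx F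
  refine ⟨a, t.isGE_of_iso eF a, fun M i => ?_⟩
  haveI h0 : (((T X).obj ((DCoh.Lpull f).obj (DCoh.inD S M))).obj E).IsGE a := by
    refine (DerivedCategory.isGE_iff _ _).2 fun j hj => ?_
    exact (TorTest.isZero_hd_tensor_inD f F hF M (Or.inl hj)).of_iso
      ((DerivedCategory.homologyFunctor X.Modules j).mapIso
        (((T X).obj _).mapIso eF.symm ≪≫ (ltensorCxIsoT F).app _))
  letI := lpullCommShift f
  let W := DCoh.inD S M
  obtain ⟨e₁⟩ := PushTensorPC.nonempty_T_shift E ((DCoh.Lpull f).obj W) (-i)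
  let eW : (DerivedCategory.singleFunctor S.Modules i).obj M ≅ W⟦(-i : ℤ)⟧ :=
    (((DerivedCategory.singleFunctors S.Modules).shiftIso (-i) i 0 (by omega)).app M).symm
  let e : ((T X).obj ((DCoh.Lpull f).obj ((DerivedCategory.singleFunctor S.Modules i).obj M))).obj E ≅
      (((T X).obj ((DCoh.Lpull f).obj W)).obj E)⟦(-i : ℤ)⟧ :=
    σ _ E ≪≫ ((T X).obj E).mapIso ((DCoh.Lpull f).mapIso eW ≪≫ ((DCoh.Lpull f).commShiftIso (-i : ℤ)).app W) ≪≫
      e₁ ≪≫ (shiftFunctor (DCoh.D X) (-i : ℤ)).mapIso (σ E _)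
  haveI : ((((T X).obj ((DCoh.Lpull f).obj W)).obj E)⟦(-i : ℤ)⟧).IsGE (a + i) :=
    t.isGE_shift _ a (-i) (a + i) (by omega)
  exact t.isGE_of_iso e.symm (a + i)

variable [IsProper f] [Flat f] [LocallyOfFinitePresentation f] [DCoh.HasRpush f]

/-- `Rf_* RHom(k, E)` for perfect `k`. -/
theorem isPerfect_push_R {E k : DCoh.D X} (hEpc : ∀ m : ℤ, DCoh.IsPseudoCoherentD m E)
    (htor : DCoh.LocHasFiniteRelTorDim f E) (hk : DCoh.IsPerfect k) :
    DCoh.IsPerfect ((DCoh.Rpush f).obj ((R k).obj E)) := by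
  let F := DerivedCategory.Q.objPreimage E
  let eF : DCoh.toD X F ≅ E := DerivedCategory.Q.objObjPreimageIso E
  haveI := hasLTensorCx F
  obtain ⟨h1, h2⟩ := TorTest.rp_iso f
    (((ltensorCxIsoT F).app (ro k)).symm ≪≫ ((T X).obj (ro k)).mapIso eF ≪≫ σ (ro k) E ≪≫ θIso hk E)
    (TorTest.rp_ltensor f F (TorTest.rp_iso f eF.symm ⟨hEpc, htor⟩) (isPerfect_ro hk))
  exact BaseChange.isPerfect_rpush_of_relPerfect f h1 h2

variable [CompactSpace S] [QuasiSeparatedSpace S]

/-- **`Rf_* RHom(K, E)` is the dual of a pseudo-coherent object.** -/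
theorem exists_dual {E : DCoh.D X} (hEpc : ∀ m : ℤ, DCoh.IsPseudoCoherentD m E)
    (htor : DCoh.LocHasFiniteRelTorDim f E) {K : DCoh.D X} (hK : ∀ m : ℤ, DCoh.IsPseudoCoherentD m K) :
    ∃ L : DCoh.D S, (∀ m : ℤ, DCoh.IsPseudoCoherentD m L) ∧
      Nonempty ((DCoh.Rpush f).obj ((R K).obj E) ≅ ro L) := by
  haveI : CompactSpace X := QuasiCompact.compactSpace_of_compactSpace f
  haveI : QuasiSeparatedSpace X := quasiSeparatedSpace_of_quasiSeparated f
  haveI := hasLpull f
  haveI : HasColimitsOfShape (Discrete ℕ) (DCoh.D S) :=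
    haveI := KInjRes.hasCoproducts_derivedCategory (A := S.Modules)
    hasColimitsOfShape_of_equivalence (Discrete.equivalence (Equiv.ulift.{u} : ULift.{u} ℕ ≃ ℕ))
  obtain ⟨k, v, i, hk, hvi, hiso⟩ := Thomason.exists_stage_seq (T := (Set.univ : Set X)) isClosed_univ
    (by simp) hK (fun j x _ => trivial)
  obtain ⟨a, ha, hg⟩ := exists_bound f htor
  haveI := ha
  -- the approximations
  let N : ℕ → DCoh.D S := fun n => (DCoh.Rpush f).obj ((R (k n)).obj E)
  let q : ∀ n, N (n + 1) ⟶ N n := fun n => (DCoh.Rpush f).map (Rmap (v n) E)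
  let p : ∀ n, (DCoh.Rpush f).obj ((R K).obj E) ⟶ N n := fun n => (DCoh.Rpush f).map (Rmap (i n) E)
  have hN : ∀ n, DCoh.IsPerfect (N n) := fun n => isPerfect_push_R f hEpc htor (hk n).1
  have hpq : ∀ n, p (n + 1) ≫ q n = p n := fun n => by
    show (DCoh.Rpush f).map _ ≫ (DCoh.Rpush f).map _ = _
    rw [← Functor.map_comp, ← LeadBrown.Rmap_comp, hvi]
  have hp : ∀ n : ℕ, BelowIso (p n) (a + n - 1) := fun n => by
    obtain ⟨C, π, w, hC⟩ := distinguished_cocone_triangle (i n)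
    haveI := isLE_cone hC (-(n : ℤ)) (fun j hj => hiso n j hj)
    exact (belowIso_Rmap hC (-(n : ℤ) - 1) E a (a + n - 1) (by omega)).rpush f
  -- the transition maps of the duals
  have hv : ∀ (n : ℕ) (j : ℤ), -(n : ℤ) ≤ j → IsIso ((DerivedCategory.homologyFunctor X.Modules j).map (v n)) :=
    fun n j hj => by
      haveI := hiso n j hj
      haveI := hiso (n + 1) j (by omega)
      haveI : IsIso ((DerivedCategory.homologyFunctor X.Modules j).map (v n) ≫
          (DerivedCategory.homologyFunctor X.Modules j).map (i (n + 1))) := by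
        rw [← Functor.map_comp, hvi]; infer_instance
      exact IsIso.of_isIso_comp_right _ ((DerivedCategory.homologyFunctor X.Modules j).map (i (n + 1)))
  have hfiso : ∀ (n : ℕ) (j : ℤ), -a - n + 4 ≤ j →
      IsIso ((DerivedCategory.homologyFunctor S.Modules j).map (rmap (q n))) := fun n j hj => by
    obtain ⟨C, π, w, hC⟩ := distinguished_cocone_triangle (v n)
    haveI := isLE_cone hC (-(n : ℤ)) (hv n)
    obtain ⟨D, π', w', hD⟩ := distinguished_cocone_triangle (rmap (q n))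
    haveI := isLE_cone_rmap (hN n) (hN (n + 1)) (q n) hD (a + n - 1) (-a - n + 2) (by omega) fun M hM l =>
      belowIso_T_push f (Rmap (v n) E)
        (LeadBrown.isQCohD_R_perfect (hk (n + 1)).1 (BaseChange.isQCohD_of_pc hEpc))
        (LeadBrown.isQCohD_R_perfect (hk n).1 (BaseChange.isQCohD_of_pc hEpc))
        (QCohD.isQCohD_iso ((((DerivedCategory.singleFunctors S.Modules).shiftIso (-l) l 0 (by omega)).app M))
          (BaseChange.isQCohD_shift (TorTest.isQCohD_inD hM) (-l)))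
        (belowIso_T_Rmap (hk n).1 (hk (n + 1)).1 hC (-(n : ℤ) - 1) _ E (a + l) (hg M l) (a + n - 1 + l) (by omega))
    exact isIso_hd_of_cone hD (-a - n + 2) j (by omega)
  -- the homotopy colimit
  let L₀ : ℕ → DCoh.D S := fun n => ro (N n)
  let f₀ : ∀ n, L₀ n ⟶ L₀ (n + 1) := fun n => rmap (q n)
  obtain ⟨L, d, c, hd⟩ := distinguished_cocone_triangle (𝟙 (∐ L₀) - DerLim.shiftMap L₀ f₀)
  let l : ∀ n, L₀ n ⟶ L := fun n => Sigma.ι L₀ n ≫ d
  have hdl : Sigma.desc l = d := Sigma.hom_ext _ _ fun n => Sigma.ι_desc _ _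
  have hL : DerLim.IsHocolim L₀ f₀ L l := ⟨c, by rw [hdl]; exact hd⟩
  have hl : ∀ (n : ℕ) (j : ℤ), -a - n + 4 ≤ j →
      IsIso ((DerivedCategory.homologyFunctor S.Modules j).map (l n)) := fun n j hj =>
    isIso_hd_l hL n j fun m hm => hfiso m j (by omega)
  refine ⟨L, fun m => ?_, ?_⟩
  · let g : ℕ → ℕ := fun n => ((n : ℤ) - a + 4).toNat
    exact Thomason.isPseudoCoherentD_of_stages (fun n => L₀ (g n)) (fun n => l (g n))
      (fun n => isPerfect_ro (hN _))
      (fun n => (Thomason.isIso_truncGE_map_iff _ _).2 fun j hj => hl _ j (by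
        have := Int.self_le_toNat ((n : ℤ) - a + 4)
        show -a - ((((n : ℤ) - a + 4).toNat : ℕ) : ℤ) + 4 ≤ j
        omega)) m
  -- the comparison
  let N₀ := (DCoh.Rpush f).obj ((R K).obj E)
  obtain ⟨φ, hφ⟩ := Triangle.yoneda_exact₂ _ hd (Sigma.desc fun n => rmap (p n)) (by
    show (𝟙 (∐ L₀) - DerLim.shiftMap L₀ f₀) ≫ Sigma.desc (fun n => rmap (p n)) = 0
    refine Sigma.hom_ext _ _ fun n => ?_
    simp [DerLim.shiftMap, f₀, ← rmap_comp, hpq])
  change L ⟶ ro N₀ at φ
  change Sigma.desc (fun n => rmap (p n)) = d ≫ φ at hφ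
  have hlφ : ∀ n, l n ≫ φ = rmap (p n) := fun n => by
    show (Sigma.ι L₀ n ≫ d) ≫ φ = rmap (p n)
    rw [Category.assoc, ← hφ, Sigma.ι_desc]
  let ψ : N₀ ⟶ ro L := w N₀ ≫ rmap φ
  have hψ : ∀ n, ψ ≫ rmap (l n) = p n ≫ w (N n) := fun n => by
    show (w N₀ ≫ rmap φ) ≫ rmap (l n) = _
    rw [Category.assoc, ← rmap_comp, hlφ, LeadBrown.w_naturality]
  haveI : IsIso ψ := isIso_of_belowIso ψ fun c₀ => by
    let n : ℕ := (c₀ - a + 6).toNat
    have hn := Int.self_le_toNat (c₀ - a + 6)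
    haveI := isIso_w (hN n)
    obtain ⟨C, π, w', hC⟩ := distinguished_cocone_triangle (l n)
    haveI := isLE_cone hC (-a - n + 4) (hl n)
    haveI : (one S).IsGE 0 := (inferInstance : (DerivedCategory.Q.obj (S₀ S)).IsGE 0)
    have h₁ : BelowIso (rmap (l n)) c₀ :=
      belowIso_Rmap hC (-a - n + 4 - 1) (one S) 0 c₀ (by simp only [n]; omega)
    have h₂ : BelowIso (p n) c₀ := (hp n).mono (by simp only [n]; omega)
    refine BelowIso.of_comp_right ?_ h₁
    rw [hψ]
    exact h₂.comp (belowIso_of_isIso _ _)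
  exact ⟨asIso ψ⟩

end Groth.Agent.H16Derived.RelDual
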