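import Groth.Agent.H16Derived.RelDual.Below
import Groth.Agent.H02CA.FMConv.ProjNat
import Groth.Agent.LeadBrown.SelfHomFormal

/-!
# Tensoring `Rf_* RHom(-, E)` with objects of the base
-/

set_option autoImplicit false
set_option linter.style.haveILetI false
set_option backward.isDefEq.respectTransparency false

universe u

open CategoryTheory CategoryTheory.Limits AlgebraicGeometry Pretriangulated
open Groth.Agent.H16Derived.Dual
open Groth.Agent.H16Derived.KFlat Groth.Agent.H16Derived.KFlat.Stalk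

open DerivedCategory.TStructure (t)

attribute [local instance] HasDerivedCategory.standard

namespace Groth.Agent.H16Derived.RelDual

variable {X S : Scheme.{u}}

/-- `RHom(u, m) = m ⊗ u^∨` as maps. -/
theorem T_rmap_iff {k k' : DCoh.D X} (hk : DCoh.IsPerfect k) (hk' : DCoh.IsPerfect k') (u : k ⟶ k')
    (m : DCoh.D X) (c : ℤ) : BelowIso (Rmap u m) c ↔ BelowIso (((T X).obj m).map (rmap u)) c :=
  ⟨fun h => h.of_iso (θIso hk' m) (θIso hk m) (LeadBrown.θ_naturality_left m u),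
    fun h => h.of_iso (θIso hk' m).symm (θIso hk m).symm (by
      show Rmap u m ≫ (θIso hk m).inv = (θIso hk' m).inv ≫ _
      rw [Iso.comp_inv_eq, Category.assoc, Iso.eq_inv_comp]
      exact (LeadBrown.θ_naturality_left m u).symm)⟩

/-- Tensoring `RHom(u, E)` with an object. -/
theorem belowIso_T_Rmap {k k' C : DCoh.D X} (hk : DCoh.IsPerfect k) (hk' : DCoh.IsPerfect k') {u : k ⟶ k'}
    {p : k' ⟶ C} {w : C ⟶ k⟦(1 : ℤ)⟧} (hT : Triangle.mk u p w ∈ distTriang (DCoh.D X)) (δ : ℤ) [C.IsLE δ]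
    (V E : DCoh.D X) (g : ℤ) (hg : (((T X).obj V).obj E).IsGE g) (c : ℤ) (hc : c + δ + 1 < g) :
    BelowIso (((T X).obj V).map (Rmap u E)) c := by
  haveI := hg
  have h := (T_rmap_iff hk hk' u (((T X).obj V).obj E) c).1 (belowIso_Rmap hT δ (((T X).obj V).obj E) g c hc)
  refine h.of_iso (((T X).obj V).mapIso (θIso hk' E).symm ≪≫ (α V E (ro k')).symm)
    (((T X).obj V).mapIso (θIso hk E).symm ≪≫ (α V E (ro k)).symm) ?_
  have h1 : Rmap u E ≫ (θIso hk E).inv = (θIso hk' E).inv ≫ ((T X).obj E).map (rmap u) := by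
    rw [Iso.comp_inv_eq, Category.assoc, Iso.eq_inv_comp]
    exact (LeadBrown.θ_naturality_left E u).symm
  have h2 : ((T X).obj V).map (((T X).obj E).map (rmap u)) ≫ (α V E (ro k)).inv =
      (α V E (ro k')).inv ≫ ((T X).obj (((T X).obj V).obj E)).map (rmap u) := by
    rw [Iso.comp_inv_eq, Category.assoc, Iso.eq_inv_comp]
    exact (α_naturality_right V E (rmap u)).symm
  show ((T X).obj V).map (Rmap u E) ≫ ((T X).obj V).map (θIso hk E).inv ≫ (α V E (ro k)).inv =
    (((T X).obj V).map (θIso hk' E).inv ≫ (α V E (ro k')).inv) ≫ _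
  rw [← Functor.map_comp_assoc, h1, Functor.map_comp, Category.assoc, Category.assoc, h2]

variable (f : X ⟶ S) [QuasiCompact f] [QuasiSeparated f] [DCoh.HasRpush f]

/-- The projection formula on arrows. -/
theorem belowIso_T_push [DCoh.HasLpull f] {A B : DCoh.D X} (φ : A ⟶ B) (hA : DCoh.IsQCohD A)
    (hB : DCoh.IsQCohD B) {W : DCoh.D S} (hW : DCoh.IsQCohD W) {c : ℤ}
    (h : BelowIso (((T X).obj ((DCoh.Lpull f).obj W)).map φ) c) :
    BelowIso (((T S).obj W).map ((DCoh.Rpush f).map φ)) c := by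
  let P : ObjectProperty (DCoh.D X) := fun E => DCoh.IsQCohD E
  obtain ⟨e⟩ := H02CA.FMConv.nonempty_projection_TFlip f P.ι (fun c => c.property) hW
  let L := (DCoh.Lpull f).obj W
  let A' : P.FullSubcategory := ⟨A, hA⟩
  let B' : P.FullSubcategory := ⟨B, hB⟩
  let φ' : A' ⟶ B' := ObjectProperty.homMk φ
  refine (h.rpush f).of_iso
    ((σ W ((DCoh.Rpush f).obj A)) ≪≫ e.app A' ≪≫ (DCoh.Rpush f).mapIso (σ A L))
    ((σ W ((DCoh.Rpush f).obj B)) ≪≫ e.app B' ≪≫ (DCoh.Rpush f).mapIso (σ B L)) ?_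
  have hn : ((T S).map ((DCoh.Rpush f).map φ)).app W ≫ e.hom.app B' =
      e.hom.app A' ≫ (DCoh.Rpush f).map (((T X).map φ).app L) := e.hom.naturality φ'
  show ((T S).obj W).map ((DCoh.Rpush f).map φ) ≫ (σ W _).hom ≫ e.hom.app B' ≫
      (DCoh.Rpush f).map (σ B L).hom =
    ((σ W _).hom ≫ e.hom.app A' ≫ (DCoh.Rpush f).map (σ A L).hom) ≫ (DCoh.Rpush f).map (((T X).obj L).map φ)
  rw [σ_naturality_right_assoc, reassoc_of% hn, Category.assoc, Category.assoc, ← Functor.map_comp,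
    ← Functor.map_comp, σ_naturality_left]
  rfl

/-- Maps out of a dual see the tensor product. -/
theorem bijective_rmap_test {N N' : DCoh.D X} (hN : DCoh.IsPerfect N) (hN' : DCoh.IsPerfect N') (q : N' ⟶ N)
    (Z : DCoh.D X) {c : ℤ} (hc : 0 ≤ c) (h : BelowIso (((T X).obj Z).map q) c) :
    Function.Bijective fun z : ro N' ⟶ Z => rmap q ≫ z := by
  haveI : (one X).IsLE c :=
    haveI : (one X).IsLE 0 := (inferInstance : (DerivedCategory.Q.obj (S₀ X)).IsLE 0)
    t.isLE_of_le (one X) 0 c hc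
  haveI := isIso_w hN
  haveI := isIso_w hN'
  have h' : BelowIso (((T X).obj Z).map (rmap (rmap q))) c :=
    h.of_iso (((T X).obj Z).mapIso (asIso (w N')).symm) (((T X).obj Z).mapIso (asIso (w N)).symm) (by
      show _ ≫ ((T X).obj Z).map (inv (w N)) = ((T X).obj Z).map (inv (w N')) ≫ _
      rw [← Functor.map_comp, ← Functor.map_comp]
      refine congrArg _ ?_
      rw [IsIso.comp_inv_eq, Category.assoc, IsIso.eq_inv_comp]
      exact (LeadBrown.w_naturality q).symm)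
  let e : ∀ k : DCoh.D X, ((T X).obj (one X)).obj k ≅ k := fun k => σ (one X) k ≪≫ (rightUnit X).app k
  have hb : ∀ k, DCoh.IsPerfect k →
      Function.Bijective fun x : one X ⟶ ((T X).obj Z).obj (ro k) => (e k).inv ≫ th (one X) Z k x := by
    intro k hk
    haveI := isIso_θ hk Z
    have : (fun x : one X ⟶ ((T X).obj Z).obj (ro k) => (e k).inv ≫ th (one X) Z k x) =
        (fun y => (e k).inv ≫ y) ∘ ((adjR k).homEquiv _ _).symm ∘ fun x => x ≫ θ k Z := funext fun x =>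
      congrArg ((e k).inv ≫ ·) (th_eq _ _ _ x)
    rw [this]
    have hpre : Function.Bijective fun y : ((T X).obj (one X)).obj k ⟶ Z => (e k).inv ≫ y :=
      ⟨fun a b hab => (cancel_epi _).1 hab, fun y => ⟨(e k).hom ≫ y, by simp⟩⟩
    exact hpre.comp
      (((adjR k).homEquiv _ _).symm.bijective.comp
        ⟨fun a b hab => (cancel_mono _).1 hab, fun y => ⟨y ≫ inv (θ k Z), by simp⟩⟩)
  have hnat : ((T X).obj (one X)).map (rmap q) ≫ (e (ro N')).hom = (e (ro N)).hom ≫ rmap q := by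
    show _ ≫ (σ _ _).hom ≫ (rightUnit X).hom.app _ = ((σ _ _).hom ≫ (rightUnit X).hom.app _) ≫ _
    rw [σ_naturality_right_assoc, Category.assoc]
    exact congrArg (_ ≫ ·) ((rightUnit X).hom.naturality (rmap q))
  have hcomm : ∀ x : one X ⟶ ((T X).obj Z).obj (ro (ro N')),
      rmap q ≫ (e (ro N')).inv ≫ th (one X) Z (ro N') x =
        (e (ro N)).inv ≫ th (one X) Z (ro N) (x ≫ ((T X).obj Z).map (rmap (rmap q))) := fun x => by
    rw [th_naturality, Iso.eq_inv_comp, ← Category.assoc, ← hnat, Category.assoc, Iso.hom_inv_id_assoc]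
  have hcomp : Function.Bijective fun x : one X ⟶ ((T X).obj Z).obj (ro (ro N')) =>
      rmap q ≫ (e (ro N')).inv ≫ th (one X) Z (ro N') x := by
    simp only [hcomm]
    exact (hb _ (isPerfect_ro hN)).comp (h' (one X) inferInstance)
  exact (Function.Bijective.of_comp_iff _ (hb _ (isPerfect_ro hN'))).1 hcomp

/-- **Low degrees of the map and high degrees of its dual.** -/
theorem isLE_cone_rmap [CompactSpace X] {N N' : DCoh.D X} (hN : DCoh.IsPerfect N) (hN' : DCoh.IsPerfect N')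
    (q : N' ⟶ N) {C : DCoh.D X} {p : ro N' ⟶ C} {w' : C ⟶ (ro N)⟦(1 : ℤ)⟧}
    (hT : Triangle.mk (rmap q) p w' ∈ distTriang (DCoh.D X)) (c₀ b : ℤ) (hb : -c₀ < b)
    (h : ∀ (M : X.Modules), Coh.IsQCoh M → ∀ i : ℤ,
      BelowIso (((T X).obj ((DerivedCategory.singleFunctor X.Modules i).obj M)).map q) (c₀ + i)) :
    C.IsLE b := by
  have hC : DCoh.IsPerfect C := perfect_mid (rot_of_distTriang _ hT) (isPerfect_ro hN')
    (isPerfect_shift (isPerfect_ro hN) 1)
  obtain ⟨n, hn⟩ := Thomason.exists_isLE_of_pc (isPseudoCoherentD_of_isPerfect hC 0)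
  haveI := hn
  refine isLE_of_tests n (isQCohD_of_isPerfect hC) b fun i hi M hM z => ?_
  let Z := (DerivedCategory.singleFunctor X.Modules i).obj M
  let Z' := (DerivedCategory.singleFunctor X.Modules (i + 1)).obj M
  let ε : Z'⟦(1 : ℤ)⟧ ≅ Z :=
    ((DerivedCategory.singleFunctors X.Modules).shiftIso 1 i (i + 1) (by omega)).app M
  have h₀ := bijective_rmap_test hN hN' q Z (by omega) (h M hM i)
  have h₁ := bijective_rmap_test hN hN' q Z' (by omega) (h M hM (i + 1))
  obtain ⟨y, hy⟩ : ∃ y : (ro N)⟦(1 : ℤ)⟧ ⟶ Z, z = w' ≫ y :=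
    Triangle.yoneda_exact₃ _ hT z (h₀.1 (by
      show rmap q ≫ p ≫ z = rmap q ≫ 0
      rw [← Category.assoc, show rmap q ≫ p = 0 from comp_distTriang_mor_zero₁₂ _ hT, zero_comp, comp_zero]))
  obtain ⟨y', hy'⟩ : ∃ y' : ro N ⟶ Z', y'⟦(1 : ℤ)⟧' = y ≫ ε.inv :=
    ⟨_, (shiftFunctor (DCoh.D X) (1 : ℤ)).map_preimage _⟩
  obtain ⟨x, hx⟩ := h₁.2 y'
  have hy2 : y = y'⟦(1 : ℤ)⟧' ≫ ε.hom := by rw [hy', Category.assoc, Iso.inv_hom_id, Category.comp_id]
  rw [hy, hy2, ← hx, Functor.map_comp, Category.assoc, ← Category.assoc,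
    show w' ≫ (rmap q)⟦(1 : ℤ)⟧' = 0 from comp_distTriang_mor_zero₃₁ _ hT, zero_comp]

end Groth.Agent.H16Derived.RelDual
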